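import Cfsg.Agent.H63.AO.Abs
import Cfsg.Agent.H989.OutOrth.Basic
import Cfsg.Agent.LieRecognition.FieldSemilinear

/-!
# S4822, orthogonal groups in characteristic 2: the outer automorphism group is abelian (helper63)

`Q` good, `F` finite of characteristic 2, `Psi Q` surjective: all commutators of automorphisms of `P Q` are inner.
-/

set_option autoImplicit false
set_option linter.unusedSectionVars false

open Subgroup

namespace Cfsg.Agent.H63.AO

open QuadraticMap
open Cfsg.Agent.LieClassical.OrthCore Cfsg.Agent.LieClassical.OrthTrans Cfsg.Agent.ClassicalGeometry.OrthSemi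
open Cfsg.Agent.ClassicalGeometry.OrthSemiCount Cfsg.Agent.ClassicalGeometry.OrthAut1
open Cfsg.Agent.H989.OutOrth.Basic

universe u v

variable {F : Type u} {V : Type v} [Field F] [AddCommGroup V] [Module F V] {Q : QuadraticForm F V}

theorem comm_even [Finite F] [FiniteDimensional F V] (hsq : ∀ c : F, IsSquare c) (hG : Good Q) (M N : Gam Q) :
    out Q (M * N * M⁻¹ * N⁻¹) = 1 := by
  have hcyc : IsCyclic (RingAut F) := Cfsg.Agent.LieRecognition.FieldSemilinear.isCyclic_ringAut F
  refine comm_mem (sg hG) (out Q).ker ?_ ?_ M N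
  · intro M hM
    exact sg_eq_one_of_out hG hM
  · intro x hx M
    obtain ⟨σ, c, hx'⟩ := x.2
    have hσ : σ = RingEquiv.refl F := by
      rw [← sg_eq hG hx', show sg hG x = 1 from hx]; rfl
    subst hσ
    obtain ⟨g, a, rfl⟩ := exists_ofO_mul_scal hx' (hsq c)
    have h1 : out Q (ofO Q g) ∈ centralizer (Set.range (out Q)) := by
      apply out_ofO_mem hG
      intro w hw
      rw [mem_centralizer_iff]
      rintro _ ⟨L, rfl⟩
      have hw' : Q (L.1 w) ≠ 0 := Q_ne L hw
      obtain ⟨s, hs⟩ := hsq (Q (L.1 w) / Q w)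
      have h2 : out Q (rf w hw) = out Q (rf (L.1 w) hw') :=
        out_rf_of_square hG hw hw' (s := s) (by rw [← hs, div_mul_cancel₀ _ hw])
      have h3 := congrArg (out Q) (conj_rf L hw hw')
      rw [map_mul, map_mul, map_inv, ← h2, mul_inv_eq_iff_eq_mul] at h3
      exact h3
    have h2 := mem_centralizer_iff.1 h1 (out Q M) ⟨M, rfl⟩
    rw [MonoidHom.mem_ker, map_mul, map_mul, map_mul, map_inv, map_inv, map_mul, out_scal hG, mul_one, h2]
    group

/-- **Characteristic 2.** -/
theorem abS_even {p : ℕ} [Finite F] [FiniteDimensional F V] (hsq : ∀ c : F, IsSquare c) (hG : Good Q)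
    (hsurj : Function.Surjective (Psi Q)) : AbS p (↥(E Q) ⧸ Subgroup.center ↥(E Q)) := by
  apply AbS.of_out
  intro α β
  obtain ⟨M, rfl⟩ := hsurj α
  obtain ⟨N, rfl⟩ := hsurj β
  rw [← map_inv, ← map_inv, ← map_mul, ← map_mul, ← map_mul]
  exact (QuotientGroup.eq_one_iff _).1 (comm_even hsq hG M N)

end Cfsg.Agent.H63.AO
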