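import Cfsg.Agent.H63.AO.OddMain
import Cfsg.Agent.H63.AO.Even
import Cfsg.Agent.AutOrth.Final
import Cfsg.Prelude.Def_LieTypeChar

/-!
# S4822, `AbOut` for the orthogonal groups of even dimension (helper63)

From the spinor sign element (`CoreAll`, helper813): `ab_omegaPlus`, `ab_omegaMinus`.
-/

set_option autoImplicit false
set_option linter.unusedSectionVars false

open Subgroup

namespace Cfsg.Agent.H63.AO

open QuadraticMap
open Cfsg.Agent.LieClassical.OrthCore Cfsg.Agent.LieClassical.OrthTrans Cfsg.Agent.ClassicalGeometry.OrthSemi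
open Cfsg.Agent.H198.OrthFrame Cfsg.Agent.AutOrth.Main

universe u

theorem abS_of {p : ℕ} [hp : Fact p.Prime] {ι : Type} [Fintype ι] [DecidableEq ι] {F : Type u} [Field F] [Finite F]
    {Q : QuadraticForm F (ι → F)} (hG : Good Q) {n : ℕ} (hn : Fintype.card ι = 2 * n)
    (hsurj : Function.Surjective (Psi Q)) (hcore : (2 : F) ≠ 0 → Core p Q) : AbS p (POmega F ⇑Q) := by
  by_cases h2 : (2 : F) = 0
  · refine AbS.congr (pe hG) (abS_even ?_ hG hsurj)
    have hc : CharP F 2 := CharTwo.of_one_ne_zero_of_two_eq_zero one_ne_zero h2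
    intro c
    have hs : Function.Surjective (frobenius F 2) := Finite.surjective_of_injective (frobenius_inj F 2)
    obtain ⟨d, hd⟩ := hs c
    exact ⟨d, by rw [← hd, frobenius_def, pow_two]⟩
  · refine abS_odd h2 hG hn ?_ (Phi_surjective hG hsurj) (hcore h2)
    have := hG.dim
    rwa [Module.finrank_fintype_fun_eq_card] at this

/-- the element of helper813 -/
def CoreAll (p : ℕ) : Prop := ∀ {ι : Type} [Fintype ι] [DecidableEq ι] {F : Type} [Field F] [Finite F]
  {Q : QuadraticForm F (ι → F)}, (2 : F) ≠ 0 → (p : F) ≠ 0 → Nondeg Q → Core p Q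

variable {p : ℕ} [hp : Fact p.Prime] {S : Type u} [Group S] [Finite S]

theorem cast_ne {F : Type*} [Field F] {r : ℕ} [hr : Fact r.Prime] [CharP F r] (hrp : r ≠ p) : (p : F) ≠ 0 := by
  intro h
  rw [CharP.cast_eq_zero_iff F r] at h
  exact hrp ((Nat.prime_dvd_prime_iff_eq hr.out hp.out).1 h)

theorem ab_omegaPlus_of (hC : CoreAll p) {r : ℕ} [Fact r.Prime] (hrp : r ≠ p) {F : Type} [Field F] [Fintype F]
    [CharP F r] {m : ℕ} (hm : 5 ≤ m) (e : Nonempty (S ≃* POmega F (quadFormPlus m F))) : H508.KB.AbOut p S := by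
  obtain ⟨e⟩ := e
  apply AbS.abOut
  apply AbS.congr e
  have hG : Good (LieClassical.OrthForms.plusForm m F) := by
    rw [plusForm_eq]
    exact good_plus (by omega)
  rw [← LieClassical.OrthForms.coe_plusForm]
  exact abS_of hG (n := m) (by simp; omega) (AutOrth.Final.surjective_plus hm) fun h2 =>
    hC h2 (cast_ne hrp) hG.nondeg

theorem ab_omegaMinus_of (hC : CoreAll p) {r : ℕ} [Fact r.Prime] (hrp : r ≠ p) (h : IsPOmegaMinusChar r S) :
    H508.KB.AbOut p S := by
  obtain ⟨F, _, _, _, m, a, b, hm, hab, ⟨e⟩⟩ := h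
  apply AbS.abOut
  apply AbS.congr e
  have hG : Good (LieClassical.OrthForms.minusForm (m - 1) F a b) := by
    rw [minusForm_eq]
    exact good_minus (by omega) hab
  rw [← LieClassical.OrthForms.coe_minusForm]
  exact abS_of hG (n := m) (by simp; omega) (AutOrth.Final.surjective_minus (by omega) hab) fun h2 =>
    hC h2 (cast_ne hrp) hG.nondeg

end Cfsg.Agent.H63.AO
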