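import Cfsg.Agent.H508.KB.Defs

/-!
# S4822, `AbOut`: abstract part (helper63)

* `AbS p S` : the strong form of `AbOut` (all commutators of automorphisms), `AbS.abOut`, `AbS.congr` (transport);
* `comm_mem` : central by cyclic;
* `AbS.of_out` : if all commutators of automorphisms are inner.
-/

set_option autoImplicit false

open Subgroup

namespace Cfsg.Agent.H63.AO

universe u v

/-- every commutator of automorphisms acts on a Sylow `p`-subgroup as an inner automorphism -/
def AbS (p : ℕ) (S : Type u) [Group S] : Prop :=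
  ∀ (P : Sylow p S) (α β : MulAut S), ∃ s : S, ∀ x ∈ (P : Subgroup S), (α * β * α⁻¹ * β⁻¹) x = s * x * s⁻¹

theorem AbS.abOut {p : ℕ} {S : Type u} [Group S] (h : AbS p S) : H508.KB.AbOut p S :=
  fun P _ _ _ α _ β _ => h P α β

/-- transport -/
theorem AbS.congr {p : ℕ} {S : Type u} {T : Type v} [Group S] [Group T] (e : S ≃* T) (h : AbS p T) : AbS p S := by
  intro P α β
  let P' : Sylow p T := P.comapOfInjective e.symm.toMonoidHom e.symm.injective (by
    rw [MonoidHom.range_eq_top.2 e.symm.surjective]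
    exact le_top)
  obtain ⟨t, ht⟩ := h P' (MulAut.congr e α) (MulAut.congr e β)
  refine ⟨e.symm t, fun x hx => ?_⟩
  have h1 := ht (e x) (by
    show e.symm (e x) ∈ (P : Subgroup S)
    rwa [e.symm_apply_apply])
  rw [← map_mul, ← map_inv, ← map_inv, ← map_mul, ← map_mul] at h1
  have h2 : MulAut.congr e (α * β * α⁻¹ * β⁻¹) (e x) = e ((α * β * α⁻¹ * β⁻¹) x) := by
    show e ((α * β * α⁻¹ * β⁻¹) (e.symm (e x))) = _
    rw [e.symm_apply_apply]
  rw [h2] at h1
  apply e.injective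
  rw [h1, map_mul, map_mul, map_inv, e.apply_symm_apply]

/-- all commutators of automorphisms are inner -/
theorem AbS.of_out {p : ℕ} {S : Type u} [Group S]
    (h : ∀ α β : MulAut S, α * β * α⁻¹ * β⁻¹ ∈ (MulAut.conj : S →* MulAut S).range) : AbS p S := by
  intro P α β
  obtain ⟨s, hs⟩ := h α β
  exact ⟨s, fun x _ => by rw [← hs, MulAut.conj_apply]⟩

/-- A group with a central (mod `B`) subgroup with cyclic quotient is abelian (mod `B`). -/
theorem comm_mem {T : Type u} {C : Type v} [Group T] [Group C] [IsCyclic C] (f : T →* C) (B : Subgroup T)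
    (hB : B ≤ f.ker) (hc : ∀ x ∈ f.ker, ∀ y, y * x * y⁻¹ * x⁻¹ ∈ B) (x y : T) : x * y * x⁻¹ * y⁻¹ ∈ B := by
  have hn : B.Normal := ⟨fun b hb y => by
    have h1 := B.mul_mem (hc b (hB hb) y) hb
    rwa [inv_mul_cancel_right] at h1⟩
  let g : T ⧸ B →* C := QuotientGroup.lift B f hB
  have hg : g.ker ≤ center (T ⧸ B) := by
    intro a ha
    obtain ⟨a, rfl⟩ := QuotientGroup.mk_surjective a
    have ha' : a ∈ f.ker := ha
    rw [mem_center_iff]
    intro b
    obtain ⟨b, rfl⟩ := QuotientGroup.mk_surjective b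
    rw [← QuotientGroup.mk_mul, ← QuotientGroup.mk_mul, eq_comm, QuotientGroup.eq]
    have h1 := hn.conj_mem _ (hc a ha' b) (a * b)⁻¹
    have h2 : (a * b)⁻¹ * (b * a * b⁻¹ * a⁻¹) * (a * b)⁻¹⁻¹ = (a * b)⁻¹ * (b * a) := by group
    rwa [h2] at h1
  have h3 := (MonoidHom.isMulCommutative_of_isCyclic_of_ker_le_center g hg).is_comm.comm (x : T ⧸ B) (y : T ⧸ B)
  rw [← QuotientGroup.mk_mul, ← QuotientGroup.mk_mul, QuotientGroup.eq] at h3
  have h4 := hn.conj_mem _ (B.inv_mem h3) (x * y)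
  have h5 : x * y * ((x * y)⁻¹ * (y * x))⁻¹ * (x * y)⁻¹ = x * y * x⁻¹ * y⁻¹ := by group
  rwa [h5] at h4

end Cfsg.Agent.H63.AO
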