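import Cfsg.Agent.H63.AO.Abs
import Cfsg.Agent.H205.Gen
import Cfsg.Agent.H989.OutOrth.Basic
import Cfsg.Agent.LieRecognition.FieldSemilinear

/-!
# S4822, orthogonal groups of even dimension, odd characteristic: commutators of automorphisms (helper63)

`Q` good on `ι → F`, `|ι| = 2 n`, `Phi hG : Gam Q → MulAut (POmega F Q)` surjective: all commutators of automorphisms of
`POmega F Q` are induced by isometries of determinant one.
-/

set_option autoImplicit false
set_option linter.unusedSectionVars false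

open Subgroup

namespace Cfsg.Agent.H63.AO

open Matrix QuadraticMap
open Cfsg.Agent.LieClassical.OrthCore Cfsg.Agent.LieClassical.OrthTrans Cfsg.Agent.ClassicalGeometry.OrthSemi
open Cfsg.Agent.H198.OrthFrame Cfsg.Agent.H205.Gen
open Cfsg.Agent.H198.ClassesPlus (mu mu_spec mu_unique mu_eq_one_iff dt dt_apply)
open Cfsg.Agent.H989.OutOrth.Basic (sg sg_eq)

universe u

variable {ι : Type} [Fintype ι] [DecidableEq ι] {F : Type u} [Field F] {Q : QuadraticForm F (ι → F)}

theorem isSS_simGam (hG : Good Q) (y : Sim Q) : IsSS Q (RingEquiv.refl F) (mu hG y : F) (simGam Q y).1 :=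
  isSS_perm (mu hG y).ne_zero fun v => mu_spec hG y v

theorem sg_simGam (hG : Good Q) (y : Sim Q) : sg hG (simGam Q y) = 1 := sg_eq hG (isSS_simGam hG y)

/-- the semisimilarities with trivial field automorphism -/
theorem exists_sim (hG : Good Q) {M : Gam Q} (h : sg hG M = 1) : ∃ y : Sim Q, M = simGam Q y := by
  obtain ⟨σ, c, hM⟩ := M.2
  have hσ : σ = RingEquiv.refl F := by
    rw [← sg_eq hG hM, h]; rfl
  subst hσ
  obtain ⟨g, hg, hp, -⟩ := exists_perm hM
  exact ⟨⟨g, hp⟩, Subtype.ext hg⟩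

/-- conjugation of a similarity by a semisimilarity -/
theorem exists_conj_sim (hG : Good Q) (M : Gam Q) (y : Sim Q) : ∃ (y' : Sim Q) (σ : F ≃+* F),
    M * simGam Q y * M⁻¹ = simGam Q y' ∧ mu hG y' = Units.map (σ : F →* F) (mu hG y) ∧
      dt y' = Units.map (σ : F →* F) (dt y) := by
  obtain ⟨σ, c, hM⟩ := M.2
  obtain ⟨g, hg, hp, hform⟩ := exists_perm hM
  obtain ⟨y', hy'⟩ := exists_sim hG (M := M * simGam Q y * M⁻¹) (by
    rw [map_mul, map_mul, map_inv, sg_simGam, mul_one, mul_inv_cancel])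
  refine ⟨y', σ, hy', ?_, ?_⟩
  · apply mu_unique hG
    intro v
    obtain ⟨u, rfl⟩ := M.1.surjective v
    have h1 : ((y' : GL ι F) : Matrix ι ι F) *ᵥ M.1 u = M.1 (((y : GL ι F) : Matrix ι ι F) *ᵥ u) := by
      rw [← simGam_apply, ← simGam_apply, ← hy']
      show M.1 ((simGam Q y).1 (M.1⁻¹ (M.1 u))) = _
      rw [show M.1⁻¹ (M.1 u) = u from M.1.symm_apply_apply u]
    rw [h1, hM.form, hM.form, mu_spec hG, map_mul]
    show c * (σ (mu hG y) * σ (Q u)) = σ (mu hG y) * (c * σ (Q u))
    ring
  · have h1 : simGam Q y' * M = M * simGam Q y := by rw [← hy', inv_mul_cancel_right]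
    have h2 := congrArg Subtype.val h1
    have h3 : perm (y' : GL ι F) (RingEquiv.refl F) * perm g σ = perm g σ * perm (y : GL ι F) (RingEquiv.refl F) := by
      rw [← hg]; exact h2
    rw [perm_mul, perm_mul] at h3
    have h4 : (y' : GL ι F) * Units.map ((RingEquiv.refl F).toRingHom.mapMatrix.toMonoidHom) g =
        g * Units.map (σ.toRingHom.mapMatrix.toMonoidHom) (y : GL ι F) := by
      apply Units.ext
      rw [← Matrix.mulVec_injective.eq_iff]
      funext v
      have h5 := Equiv.congr_fun h3 (fun i => σ.symm (v i))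
      rw [perm_apply, perm_apply] at h5
      simpa using h5
    apply Units.ext
    have h5 := congrArg (fun x : GL ι F => (x : Matrix ι ι F).det) h4
    simp only [Units.val_mul, Matrix.det_mul] at h5
    have h6 : ((Units.map ((RingEquiv.refl F).toRingHom.mapMatrix.toMonoidHom) g : GL ι F) : Matrix ι ι F) =
        (g : Matrix ι ι F) := by
      ext i j
      rfl
    have h7 : ((Units.map (σ.toRingHom.mapMatrix.toMonoidHom) (y : GL ι F) : GL ι F) : Matrix ι ι F).det =
        σ ((y : GL ι F) : Matrix ι ι F).det := by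
      exact (RingHom.map_det σ.toRingHom _).symm
    rw [h6, h7] at h5
    have hg0 : (g : Matrix ι ι F).det ≠ 0 := (Matrix.isUnit_iff_isUnit_det _).1 g.isUnit |>.ne_zero
    rw [dt_apply]
    apply mul_right_cancel₀ hg0
    rw [h5, mul_comm]
    rfl

variable [Finite F]

theorem isSquare_map_iff (σ : F ≃+* F) (a : F) : IsSquare (σ a) ↔ IsSquare a := by
  constructor
  · rintro ⟨b, hb⟩
    refine ⟨σ.symm b, ?_⟩
    apply σ.injective
    rw [hb, map_mul, σ.apply_symm_apply]
  · rintro ⟨b, hb⟩
    exact ⟨σ b, by rw [hb, map_mul]⟩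

theorem chi_map (σ : F ≃+* F) (a : Fˣ) : chi F (Units.map (σ : F →* F) a) = chi F a := by
  have h1 : chi F (Units.map (σ : F →* F) a) = 1 ↔ chi F a = 1 := by
    rw [chi_eq_one_iff, chi_eq_one_iff]
    exact isSquare_map_iff σ a
  rcases Int.units_eq_one_or (chi F a) with h | h
  · rw [h, h1, h]
  · rcases Int.units_eq_one_or (chi F (Units.map (σ : F →* F) a)) with h' | h'
    · rw [h1, h] at h'
      exact absurd h' (by decide)
    · rw [h, h']

/-- **The commutators of semisimilarities are induced by isometries of determinant one.** -/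
theorem comm_mem_pso (hG : Good Q) {n : ℕ} (hn : Fintype.card ι = 2 * n) (M N : Gam Q) :
    Phi hG (M * N * M⁻¹ * N⁻¹) ∈ psoAut F (⇑Q) := by
  have hcyc : IsCyclic (RingAut F) := Cfsg.Agent.LieRecognition.FieldSemilinear.isCyclic_ringAut F
  refine comm_mem (sg hG) ((psoAut F (⇑Q)).comap (Phi hG)) ?_ ?_ M N
  · intro M hM
    have h1 : Phi hG M ∈ psoAut F (⇑Q) := hM
    rw [psoAut_eq hG] at h1
    obtain ⟨y, -, hy⟩ := h1
    have h2 : Phi hG (M * (simGam Q y)⁻¹) = 1 := by
      rw [map_mul, map_inv, ← hy]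
      exact mul_inv_cancel _
    obtain ⟨a, ha, hM'⟩ := (Phi_eq_one_iff hG _).1 h2
    have h3 : sg hG (M * (simGam Q y)⁻¹) = 1 := by
      apply sg_eq hG (c := a * a)
      refine ⟨mul_ne_zero ha ha, fun u v => ?_, fun b v => ?_, fun v => ?_⟩
      · rw [hM', hM', hM', smul_add]
      · rw [hM', hM', smul_comm]; rfl
      · rw [hM', QuadraticMap.map_smul]; rfl
    rw [map_mul, map_inv, sg_simGam, inv_one, mul_one] at h3
    exact h3
  · intro x hx M
    obtain ⟨y, rfl⟩ := exists_sim hG hx
    obtain ⟨y', σ, h1, h2, h3⟩ := exists_conj_sim hG M y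
    show Phi hG (M * simGam Q y * M⁻¹ * (simGam Q y)⁻¹) ∈ psoAut F (⇑Q)
    rw [h1, ← map_inv, ← map_mul]
    show S hG (y' * y⁻¹) ∈ psoAut F (⇑Q)
    rw [mem_pso_iff hG hn]
    constructor
    · rw [map_mul, map_mul, map_inv, map_inv, h2, chi_map]
      exact mul_inv_cancel _
    · have h4 : dt y = mu hG y ^ n ∨ dt y = - mu hG y ^ n := by
        rcases eta_cases hG hn y with h | h
        · left; exact (eta_eq_one_iff hG y).1 h
        · right
          rw [eta_apply, mul_inv_eq_iff_eq_mul, neg_one_mul] at h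
          exact h
      have h5 : ∀ c : Fˣ, Units.map (σ : F →* F) (-c) = - Units.map (σ : F →* F) c := fun c => by
        apply Units.ext
        show σ (-(c : F)) = -σ c
        rw [map_neg]
      rw [map_mul (dt (Q := Q)), map_inv (dt (Q := Q)), h3, map_mul (mu hG), map_inv (mu hG), h2, mul_pow, inv_pow, ← map_pow]
      rcases h4 with h4 | h4
      · rw [h4]
      · rw [h4, h5, neg_mul, inv_neg, mul_neg, neg_neg]

end Cfsg.Agent.H63.AO
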