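import Cfsg.Agent.H63.AO.Odd
import Cfsg.Agent.H160.QFinal

/-!
# S4822, `AbOut` for orthogonal groups of even dimension, odd characteristic (helper63)

`Core p Q` : every nontrivial `p`-subgroup of `O Q` is centralised by an isometry of determinant one and spinor sign `-1`
(helper813). `abS_odd` : then `AbS p (POmega F Q)`.
-/

set_option autoImplicit false
set_option linter.unusedSectionVars false

open Subgroup

namespace Cfsg.Agent.H63.AO

open Matrix QuadraticMap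
open Cfsg.Agent.LieClassical.OrthCore Cfsg.Agent.LieClassical.OrthTrans Cfsg.Agent.ClassicalGeometry.OrthSemi
open Cfsg.Agent.H198.OrthFrame Cfsg.Agent.H205.Gen Cfsg.Agent.H160.QSpin Cfsg.Agent.H160.QFinal
open Cfsg.Agent.H198.ClassesPlus (mu mu_spec mu_unique mu_eq_one_iff dt dt_apply)
open Cfsg.Agent.H989.OutOrth.Basic (sg sg_eq)

universe u

variable {ι : Type} [Fintype ι] [DecidableEq ι] {F : Type u} [Field F] {Q : QuadraticForm F (ι → F)}

variable [Finite F]

/-- every nontrivial `p`-subgroup of `O Q` is centralised by an isometry of determinant one and spinor sign `-1` -/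
def Core (p : ℕ) (Q : QuadraticForm F (ι → F)) : Prop :=
  ∀ P : Subgroup ((ι → F) ≃ₗ[F] (ι → F)), P ≤ O Q → IsPGroup p P → P ≠ ⊥ →
    ∃ z : (ι → F) ≃ₗ[F] (ι → F), El Q (-1) z ∧ ∀ g ∈ P, z * g = g * z

theorem lin_apply' (Q : QuadraticForm F (ι → F)) (x : Cfsg.Omega F ⇑Q) (v : ι → F) :
    lin Q x v = (((x : Cfsg.isometryGroup F ⇑Q) : Matrix.GeneralLinearGroup ι F) : Matrix ι ι F) *ᵥ v := rfl

/-- **Odd characteristic.** -/
theorem abS_odd {p : ℕ} [hp : Fact p.Prime] (h2 : (2 : F) ≠ 0) (hG : Good Q) {n : ℕ} (hn : Fintype.card ι = 2 * n)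
    (hd : 5 ≤ Fintype.card ι) (hsurj : Function.Surjective (Phi hG)) (hcore : Core p Q) : AbS p (POmega F ⇑Q) := by
  classical
  intro P α β
  obtain ⟨M, rfl⟩ := hsurj α
  obtain ⟨N, rfl⟩ := hsurj β
  rw [← map_inv, ← map_inv, ← map_mul, ← map_mul, ← map_mul]
  have h1 := comm_mem_pso hG hn M N
  rw [psoAut_eq hG] at h1
  obtain ⟨y, hy, hyM⟩ := h1
  rw [← hyM]
  have hy' : y.1 ∈ specialIsometryGL F (⇑Q) := hy
  have hdt : dt y = 1 := by
    apply Units.ext
    rw [dt_apply]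
    have : (y.1 : GL ι F) ∈ Geo.specialLinear ι F := hy'.2
    simpa [Geo.specialLinear, MonoidHom.mem_ker, ← Units.val_inj] using this
  -- the linear map
  obtain ⟨xL, hxO, hxy, hxd⟩ := Cfsg.Agent.H198.ClassesPlus.exists_O_of_iso y hy'.1
  rw [hdt] at hxd
  have hxv : ∀ v, xL v = (simGam Q y).1 v := fun v => by
    rw [← hxy]; rfl
  -- the lift
  have hfin : Finite (Omega F ⇑Q) := inferInstance
  obtain ⟨T, hT⟩ := Sylow.mapSurjective_surjective (QuotientGroup.mk'_surjective (center (Omega F ⇑Q))) p P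
  have hTP : ∀ x ∈ (P : Subgroup (POmega F ⇑Q)), ∃ u ∈ (T : Subgroup (Omega F ⇑Q)),
      (QuotientGroup.mk u : POmega F ⇑Q) = x := by
    intro x hx
    rw [← hT] at hx
    exact hx
  let P' : Subgroup ((ι → F) ≃ₗ[F] (ι → F)) := (T : Subgroup (Omega F ⇑Q)).map (lin Q)
  have hP'O : P' ≤ O Q := by
    rintro _ ⟨u, -, rfl⟩
    exact (el_lin h2 hG.nondeg hd u).1
  have hP'p : IsPGroup p P' := T.2.map _
  -- it is enough to find `ω` with `lin ω = xL z`, `z` commuting with `P'`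
  have key : ∀ (ω : Omega F ⇑Q) (z : (ι → F) ≃ₗ[F] (ι → F)), lin Q ω = xL * z → (∀ g ∈ P', z * g = g * z) →
      ∀ x ∈ (P : Subgroup (POmega F ⇑Q)), S hG y x =
        (QuotientGroup.mk ω : POmega F ⇑Q) * x * (QuotientGroup.mk ω : POmega F ⇑Q)⁻¹ := by
    intro ω z hω hz x hx
    obtain ⟨u, hu, rfl⟩ := hTP x hx
    rw [← QuotientGroup.mk_inv, ← QuotientGroup.mk_mul, ← QuotientGroup.mk_mul]
    apply Phi_mk
    intro v
    rw [← lin_apply', ← hxv, ← hxv, ← lin_apply', map_mul, map_mul, map_inv, hω]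
    have h3 := hz (lin Q u) ⟨u, hu, rfl⟩
    have h4 : xL * z * lin Q u * (xL * z)⁻¹ * xL = xL * lin Q u := by
      calc xL * z * lin Q u * (xL * z)⁻¹ * xL = xL * (z * lin Q u) * z⁻¹ := by group
        _ = xL * (lin Q u * z) * z⁻¹ := by rw [h3]
        _ = xL * lin Q u := by group
    exact LinearEquiv.congr_fun h4 v
  rcases Int.units_eq_one_or (spin Q ⟨xL, hxO⟩) with hs | hs
  · obtain ⟨ω, hω⟩ := exists_lin h2 hG.nondeg hd (g := xL) ⟨hxO, hxd, hs⟩
    exact ⟨_, key ω 1 (by rw [hω, mul_one]) fun g _ => by rw [one_mul, mul_one]⟩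
  · by_cases hP1 : P' = ⊥
    · refine ⟨1, fun x hx => ?_⟩
      obtain ⟨u, hu, rfl⟩ := hTP x hx
      have h3 : lin Q u ∈ P' := ⟨u, hu, rfl⟩
      rw [hP1, mem_bot] at h3
      have h4 : u = 1 := lin_injective Q (by rw [h3, map_one])
      rw [h4, QuotientGroup.mk_one, map_one, one_mul, one_mul, inv_one]
    · obtain ⟨z, hz, hzc⟩ := hcore P' hP'O hP'p hP1
      have h3 : El Q (-1 * -1) (xL * z) := El.mul ⟨hxO, hxd, hs⟩ hz
      obtain ⟨ω, hω⟩ := exists_lin h2 hG.nondeg hd (g := xL * z) (by simpa using h3)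
      exact ⟨_, key ω z hω hzc⟩

end Cfsg.Agent.H63.AO
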